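import Groth.Agent.IdealPowVan.Sys
import Groth.Agent.AmpleVan.Uniform
import Groth.Agent.Pic13Lib.SectBound
import Groth.Agent.Lib.ProjRegularPn
import Groth.Agent.NormalLib.Finite
import Groth.Agent.RefX.Transfer

/-!
# Uniform vanishing for twisted powers of an ideal with globally generated twist
-/

set_option autoImplicit false
set_option linter.style.haveILetI false
set_option backward.isDefEq.respectTransparency false
set_option backward.isDefEq.respectTransparency.types false
set_option maxHeartbeats 800000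

universe u

open CategoryTheory CategoryTheory.Limits AlgebraicGeometry TopologicalSpace Opposite
open Groth.Agent.H23.PicMul

attribute [local instance] Groth.Agent.QCoh.hasFiniteBiproducts
attribute [local instance] Groth.Agent.H23.PicMul.clMonoid

noncomputable section

namespace Groth.Agent.IdealPowVan

open Groth.Agent

/-- If `I ⊗ T` is globally generated then high ample twists of all `T^p ⊗ I^p` are acyclic. -/
theorem exists_vanishing {A : Type u} [CommRing A] [IsNoetherianRing A] {X : Scheme.{u}}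
    [X.Over (Spec (CommRingCat.of A))] [IsProper (X ↘ Spec (CommRingCat.of A))]
    {L : X.Modules} (hL : CohB1.IsAmple L) {T : X.Modules} (hT : PicF.IsInvertible T)
    (I : X.IdealSheafData)
    (hgg : Curv2.IsGloballyGenerated (CohB1.tensorMod (ClSub.idealMod I) T)) :
    ∃ m₀, ∀ m, m₀ ≤ m → ∀ p q, Subsingleton (Coh.HH X
      (CohB1.tensorMod (CohB1.tensorMod (CohB1.tensorPow T p) (ClSub.idealMod (I ^ p))) (CohB1.tensorPow L m)) (q + 1)) := by
  haveI : CompactSpace X := AmpleVan.compactSpace_of_proper (A := A)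
  haveI : IsLocallyNoetherian X := LocallyOfFiniteType.isLocallyNoetherian (X ↘ Spec (CommRingCat.of A))
  haveI : IsNoetherian X := { __ := ‹IsLocallyNoetherian X›, __ := ‹CompactSpace X› }
  have hcT : Coh.IsCoh T := AmpleVan.isCoh_invertible hT
  have hG : Coh.IsCoh (CohB1.tensorMod (ClSub.idealMod I) T) :=
    AmpleVan.isCoh_tensor (NormalLib.isCoh_idealMod I) hcT
  obtain ⟨ι, s, hs⟩ := BlowPointH1.exists_generatedBy hgg
  obtain ⟨r, j, hgen⟩ := AmpleVan.exists_fin_generatedBy hG s hs
  have hpow : ∀ p, Coh.IsCoh (CohB1.tensorMod (CohB1.tensorPow T p) (ClSub.idealMod (I ^ p))) := fun p =>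
    AmpleVan.isCoh_tensor (AmpleVan.isCoh_invertible (InvX.isInvertible_tensorPow hT p)) (NormalLib.isCoh_idealMod _)
  obtain ⟨m₀, hm₀⟩ := AmpleVan.exists_uniform_vanishing (A := A) hL (imgSys I hT (s ∘ j))
    (fun p => RefX.isCoh_of_iso (nonempty_iso I hT _ hgen p).some.symm (hpow p)) (genFrom_imgSys I hT (s ∘ j))
  refine ⟨m₀, fun m hm p q => ?_⟩
  obtain ⟨e⟩ := nonempty_iso I hT _ hgen p
  exact QCoh.subsingleton_HH_of_iso (((DCoh.tensorBi.mapIso e).app (CohB1.tensorPow L m))) _ (hm₀ m hm p q)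

theorem cl_twist_pow (k : Type u) [Field k] (n : ℕ) (a : ℤ) (j : ℕ) :
    PicF.cl (Twist.twistProjSpace n k a) ^ j = PicF.cl (Twist.twistProjSpace n k (a * j)) := by
  induction j with
  | zero =>
    rw [pow_zero, Nat.cast_zero, mul_zero, one_def]
    have h1 := PnCoh.Finite.isIso_oneHom (𝒜 := CohB1.polyGrading n k) (ProjRegular.coords k n)
      ProjRegular.coords_mem ProjRegular.coords_cover
    exact cl_eq_iff.2 ⟨@asIso _ _ _ _ _ h1⟩
  | succ j ih =>
    rw [pow_succ, ih, ← cl_tensor]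
    refine cl_eq_iff.2 ?_
    obtain ⟨t⟩ := PnCoh.Finite.twist_tensor_iso (ProjRegular.coords k n)
      ProjRegular.coords_mem ProjRegular.coords_cover (a * j) a
    exact ⟨t ≪≫ eqToIso (congrArg (Twist.twistProjSpace n k) (by push_cast; ring))⟩

theorem cl_twist_add (k : Type u) [Field k] (n : ℕ) (a b : ℤ) :
    PicF.cl (Twist.twistProjSpace n k a) * PicF.cl (Twist.twistProjSpace n k b) =
      PicF.cl (Twist.twistProjSpace n k (a + b)) := by
  rw [← cl_tensor]
  exact cl_eq_iff.2 (PnCoh.Finite.twist_tensor_iso (ProjRegular.coords k n)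
    ProjRegular.coords_mem ProjRegular.coords_cover a b)

/-- If `I(d)` is globally generated then `reg (I^p) ≤ dp + e`. -/
theorem exists_linear_bound (k : Type u) [Field k] (n : ℕ) (I : (CohB1.ProjSpace n k).IdealSheafData) (d : ℤ)
    (hd : Curv2.IsGloballyGenerated (CohB1.tensorMod (ClSub.idealMod I) (Twist.twistProjSpace n k d))) :
    ∃ e : ℤ, ∀ p : ℕ, ∀ m : ℤ, d * (p : ℤ) + e ≤ m →
      Curv2.IsMRegular k n (ClSub.idealMod (I ^ p)) m := by
  have hL : CohB1.IsAmple (Twist.twistProjSpace n k 1) := Pic13Lib.NumTriv.isAmple_twistProjSpace_one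
  have hT : PicF.IsInvertible (Twist.twistProjSpace n k d) :=
    PnCoh.Finite.isInvertible_twist (ProjRegular.coords k n) ProjRegular.coords_mem ProjRegular.coords_cover d
  haveI : IsProper (CohB1.ProjSpace n k ↘ Spec (CommRingCat.of k)) := PnCoh.Chow.isProper_toSpec n k
  obtain ⟨m₀, hm₀⟩ := exists_vanishing (A := k) hL hT I hd
  refine ⟨(m₀ : ℤ) + n, fun p m hm i hi hin => ?_⟩
  obtain ⟨q, rfl⟩ := Nat.exists_eq_add_of_le' hi
  obtain ⟨c, hc⟩ := Int.eq_ofNat_of_zero_le (show 0 ≤ m - ((q + 1 : ℕ) : ℤ) - d * p by omega)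
  obtain ⟨φ⟩ : Nonempty (CohB1.tensorMod (CohB1.tensorMod (CohB1.tensorPow (Twist.twistProjSpace n k d) p)
      (ClSub.idealMod (I ^ p))) (CohB1.tensorPow (Twist.twistProjSpace n k 1) c) ≅
      CohB1.tensorMod (ClSub.idealMod (I ^ p)) (Twist.twistProjSpace n k (m - ((q + 1 : ℕ) : ℤ)))) := by
    rw [← cl_eq_iff, cl_tensor, cl_tensor, cl_tensor, cl_tensorPow, cl_tensorPow, cl_twist_pow, cl_twist_pow,
      mul_comm (PicF.cl (Twist.twistProjSpace n k (d * p))), mul_assoc, cl_twist_add,
      show d * (p : ℤ) + 1 * (c : ℤ) = m - ((q + 1 : ℕ) : ℤ) by omega]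
  exact QCoh.subsingleton_HH_of_iso φ _ (hm₀ c (by omega) p q)

end Groth.Agent.IdealPowVan
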