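import Groth.Agent.FFun.GenSheaf
import Groth.Agent.RatSing.ExcPow
import Groth.Agent.Lib.CurveAmple
import Groth.Agent.AmpleX.Extend
import Groth.Agent.AmpleX.CounitEpi
import Groth.Agent.AmpleVan.FinGen
import Groth.Agent.BlowPointH1.Sections
import Groth.Prelude.Def_Curv2

/-!
# The system of twisted powers of an ideal with globally generated twist

If `I ⊗ T` is generated by finitely many global sections, the modules `T^p ⊗ I^p` form a system
generated in degree zero, after identifying them with the images of the monomials in these sections.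
-/

set_option autoImplicit false
set_option linter.style.haveILetI false
set_option linter.unusedSectionVars false
set_option backward.isDefEq.respectTransparency false
set_option backward.isDefEq.respectTransparency.types false
set_option maxHeartbeats 800000

universe u

open CategoryTheory CategoryTheory.Limits AlgebraicGeometry TopologicalSpace Opposite

attribute [local instance] Groth.Agent.QCoh.hasFiniteBiproducts

noncomputable section

namespace Groth.Agent.IdealPowVan

open Groth.Agent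

variable {X : Scheme.{u}} (I : X.IdealSheafData) {T : X.Modules} (hT : PicF.IsInvertible T) {r : ℕ}
  (σ : Fin r → Γ(CohB1.tensorMod (ClSub.idealMod I) T, ⊤))

/-- The sections of `T` underlying the sections of `I ⊗ T`. -/
def sec (j : Fin r) : Γ(T, ⊤) := (AmpleX.idealTwist (ClSub.idealModι I) T).app ⊤ (σ j)

include hT in
theorem mulBy_comm (s t : Γ(T, ⊤)) (n : ℕ) :
    CurveAmple.mulBy (CohB1.tensorPow T n) s ≫ CurveAmple.mulBy (CohB1.tensorPow T (n + 1)) t =
      CurveAmple.mulBy (CohB1.tensorPow T n) t ≫ CurveAmple.mulBy (CohB1.tensorPow T (n + 1)) s := by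
  choose U hxU e he using fun x => InvX.exists_frame hT x
  refine InvX.hom_ext_of_frames U (fun x => ⟨x, hxU x⟩) (fun x => AmpleX.powElt (e x) n)
    (fun x => AmpleX.isFrame_powElt (he x) n) fun x => ?_
  obtain ⟨a, ha⟩ := (he x).exists_coord le_rfl (AModX.res T (le_top : U x ≤ ⊤) s)
  obtain ⟨b, hb⟩ := (he x).exists_coord le_rfl (AModX.res T (le_top : U x ≤ ⊤) t)
  rw [AModX.res_self] at ha hb
  have key : ∀ (p q : Γ(T, ⊤)), (CurveAmple.mulBy (CohB1.tensorPow T n) p ≫
      CurveAmple.mulBy (CohB1.tensorPow T (n + 1)) q).app (U x) (AmpleX.powElt (e x) n) =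
      InvX.tmul (InvX.tmul (AmpleX.powElt (e x) n) (AModX.res T (le_top : U x ≤ ⊤) p))
        (AModX.res T (le_top : U x ≤ ⊤) q) := fun p q =>
    (congrArg ((CurveAmple.mulBy (CohB1.tensorPow T (n + 1)) q).app (U x))
      (CurveAmple.mulBy_app (CohB1.tensorPow T n) p _)).trans
      (CurveAmple.mulBy_app (CohB1.tensorPow T (n + 1)) q _)
  rw [key, key, ha, hb]
  simp only [InvX.tmul_smul_left, InvX.tmul_smul_right, ← mul_smul, mul_comm a b]

/-- The tensor powers of `T` with the sections as operators. -/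
def powSys : FFun.Gen.Sys X r where
  G n := CohB1.tensorPow T n
  t n j := CurveAmple.mulBy (CohB1.tensorPow T n) (sec I σ j)
  comm n i j := mulBy_comm hT _ _ n

/-- The monomials in the sections, in one degree. -/
def mono_ (n : ℕ) : (FFun.Gen.Sys.free (Coh.structureModule X) r).G n ⟶ CohB1.tensorPow T n :=
  (powSys I hT σ).aug n

/-- The images of the monomials. -/
def imgSys : FFun.Gen.Sys X r where
  G n := Abelian.image (mono_ I hT σ n)
  t n j := kernel.lift _ (Abelian.image.ι (mono_ I hT σ n) ≫ (powSys I hT σ).t n j) (by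
    rw [← cancel_epi (Abelian.factorThruImage (mono_ I hT σ n)), comp_zero, ← Category.assoc,
      ← Category.assoc, Abelian.image.fac]
    have h := (powSys I hT σ).aug_comm n j
    change (FFun.Gen.Sys.free (Coh.structureModule X) r).t n j ≫ mono_ I hT σ (n + 1) =
      mono_ I hT σ n ≫ (powSys I hT σ).t n j at h
    rw [← h, Category.assoc, cokernel.condition, comp_zero])
  comm n i j := by
    rw [← cancel_mono (Abelian.image.ι (mono_ I hT σ (n + 1 + 1)))]
    simp only [Category.assoc, kernel.lift_ι, kernel.lift_ι_assoc]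
    exact congrArg (Abelian.image.ι (mono_ I hT σ n) ≫ ·) ((powSys I hT σ).comm n i j)

theorem imgSys_t_ι (n : ℕ) (j : Fin r) :
    (imgSys I hT σ).t n j ≫ Abelian.image.ι (mono_ I hT σ (n + 1)) =
      Abelian.image.ι (mono_ I hT σ n) ≫ (powSys I hT σ).t n j :=
  kernel.lift_ι _ _ _

theorem genFrom_imgSys : (imgSys I hT σ).GenFrom 0 := fun n _ => by
  refine Preadditive.epi_of_cancel_zero _ fun {Z} g hg => ?_
  rw [← cancel_epi (Abelian.factorThruImage (mono_ I hT σ (n + 1))), comp_zero]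
  refine biproduct.hom_ext' _ _ fun b => ?_
  obtain ⟨i, b', hb⟩ := Sym.exists_eq_cons_of_succ b.down
  obtain rfl : b = ⟨i ::ₛ b'⟩ := ULift.ext _ _ hb
  rw [comp_zero]
  have h1 : biproduct.ι (fun _ : ULift.{u} (Sym (Fin r) (n + 1)) => Coh.structureModule X) ⟨i ::ₛ b'⟩ =
      biproduct.ι (fun _ : ULift.{u} (Sym (Fin r) n) => Coh.structureModule X) ⟨b'⟩ ≫
        (FFun.Gen.Sys.free (Coh.structureModule X) r).t n i :=
    (biproduct.ι_desc (fun s : ULift.{u} (Sym (Fin r) n) =>
      biproduct.ι (fun _ : ULift.{u} (Sym (Fin r) (n + 1)) => Coh.structureModule X) ⟨i ::ₛ s.down⟩) ⟨b'⟩).symm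
  have h2 : (FFun.Gen.Sys.free (Coh.structureModule X) r).t n i ≫ Abelian.factorThruImage (mono_ I hT σ (n + 1)) =
      Abelian.factorThruImage (mono_ I hT σ n) ≫ (imgSys I hT σ).t n i := by
    rw [← cancel_mono (Abelian.image.ι (mono_ I hT σ (n + 1))), Category.assoc, Category.assoc,
      Abelian.image.fac, imgSys_t_ι, ← Category.assoc, Abelian.image.fac]
    exact (powSys I hT σ).aug_comm n i
  have h3 : (imgSys I hT σ).t n i ≫ g = 0 := by
    rw [← biproduct.ι_desc (fun j : ULift.{u} (Fin r) => (imgSys I hT σ).t n j.down) ⟨i⟩, Category.assoc]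
    exact (congrArg _ hg).trans comp_zero
  rw [h1, Category.assoc, reassoc_of% h2, h3, comp_zero, comp_zero]

variable {V : X.Opens} (hV : IsAffineOpen V) {e : Γ(T, V)} (he : InvX.IsFrame e) {f : Fin r → Γ(X, V)}
  (hf : ∀ j, AModX.res T (le_top : V ≤ ⊤) (sec I σ j) = f j • e)

include hf in
theorem word_app (n : ℕ) (b : Sym (Fin r) n) :
    ((powSys I hT σ).word n b).app V (1 : Γ(X, V)) =
      ((b : Multiset (Fin r)).map f).prod • AmpleX.powElt e n := by
  induction n with
  | zero =>
    obtain rfl := Subsingleton.elim b Sym.nil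
    simp only [Sym.coe_nil, Multiset.map_zero, Multiset.prod_zero, one_smul]
    rfl
  | succ n ih =>
    obtain ⟨i, b', rfl⟩ := Sym.exists_eq_cons_of_succ b
    have h := congr(($((powSys I hT σ).word_cons n i b')).app V (1 : Γ(X, V)))
    refine h.trans ?_
    show (CurveAmple.mulBy (CohB1.tensorPow T n) (sec I σ i)).app V
      (((powSys I hT σ).word n b').app V (1 : Γ(X, V))) = _
    rw [ih b', CurveAmple.mulBy_app, hf, InvX.tmul_smul_left, InvX.tmul_smul_right, ← mul_smul,
      AmpleX.powElt_succ, Sym.coe_cons, Multiset.map_cons, Multiset.prod_cons, mul_comm (f i)]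

/-- Monomials of one degree. -/
def monSet (f : Fin r → Γ(X, V)) (n : ℕ) : Set Γ(X, V) :=
  Set.range fun b : Sym (Fin r) n => ((b : Multiset (Fin r)).map f).prod

include hT hV he hf in
theorem range_mono (n : ℕ) :
    LinearMap.range (QCoh.appLin (mono_ I hT σ n) V) =
      Submodule.map (R₂ := Γ(X, V)) (M₂ := Γ(CohB1.tensorPow T n, V)) (LinearMap.toSpanSingleton Γ(X, V) _ (AmpleX.powElt e n)) (Ideal.span (monSet f n)) := by
  have hval : ∀ (b : ULift.{u} (Sym (Fin r) n)) (c : Γ(X, V)),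
      (mono_ I hT σ n).app V ((biproduct.ι (fun _ : ULift.{u} (Sym (Fin r) n) => Coh.structureModule X) b).app V c) =
        (c * ((b.down : Multiset (Fin r)).map f).prod) • AmpleX.powElt e n := fun b c => by
    refine (congr(($(biproduct.ι_desc (fun s : ULift.{u} (Sym (Fin r) n) => (powSys I hT σ).word n s.down) b)).app V
      c) : _).trans ?_
    refine (InvX.app_eq_smul ((powSys I hT σ).word n b.down) c).trans ?_
    rw [mul_smul]
    refine congrArg (c • ·) (Eq.trans ?_ (word_app I hT σ hf n b.down))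
    refine Eq.trans ?_ (congrArg (((powSys I hT σ).word n b.down).app V) (map_one (X.presheaf.map (homOfLE (le_top : V ≤ ⊤)).op).hom))
    exact (QCoh.map_app_comm ((powSys I hT σ).word n b.down) (homOfLE (le_top : V ≤ ⊤)) (1 : Γ(X, ⊤))).symm
  refine le_antisymm ?_ ?_
  · rintro _ ⟨x, rfl⟩
    let B := fun _ : ULift.{u} (Sym (Fin r) n) => Coh.structureModule X
    have hx := QCoh.app_sum Finset.univ (fun b => biproduct.π B b ≫ biproduct.ι B b) V x
    rw [QCoh.biproduct_total'] at hx
    simp only [Scheme.Modules.Hom.id_app, Scheme.Modules.Hom.comp_app] at hx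
    change x = ∑ b, _ at hx
    show (mono_ I hT σ n).app V x ∈ _
    rw [hx, map_sum]
    refine Submodule.sum_mem _ fun b _ => ⟨_, ?_, (hval b _).symm⟩
    exact Ideal.mul_mem_left _ _ (Ideal.subset_span ⟨b.down, rfl⟩)
  · rw [Submodule.map_le_iff_le_comap, Ideal.span, Submodule.span_le]
    rintro _ ⟨b, rfl⟩
    refine ⟨(biproduct.ι (fun _ : ULift.{u} (Sym (Fin r) n) => Coh.structureModule X) ⟨b⟩).app V (1 : Γ(X, V)), ?_⟩
    refine (hval ⟨b⟩ 1).trans ?_
    rw [one_mul]
    rfl

theorem mul_span_monSet (f : Fin r → Γ(X, V)) : ∀ n, Ideal.span (monSet f n) = Ideal.span (Set.range f) ^ n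
  | 0 => by
    rw [pow_zero, Ideal.one_eq_top, eq_top_iff]
    intro x _
    have h1 : (1 : Γ(X, V)) ∈ monSet f 0 := ⟨Sym.nil, by simp⟩
    simpa using Ideal.mul_mem_left _ x (Ideal.subset_span h1)
  | n + 1 => by
    rw [pow_succ, ← mul_span_monSet f n, Ideal.span_mul_span']
    congr 1
    ext x
    constructor
    · rintro ⟨b, rfl⟩
      obtain ⟨i, b', rfl⟩ := Sym.exists_eq_cons_of_succ b
      refine Set.mem_mul.2 ⟨_, ⟨b', rfl⟩, f i, ⟨i, rfl⟩, ?_⟩
      simp only [Sym.coe_cons, Multiset.map_cons, Multiset.prod_cons]; exact mul_comm _ _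
    · rintro ⟨_, ⟨b', rfl⟩, _, ⟨i, rfl⟩, rfl⟩
      exact ⟨i ::ₛ b', by simp only [Sym.coe_cons, Multiset.map_cons, Multiset.prod_cons]; exact mul_comm _ _⟩

include hT hV in
theorem range_mulIdeal (n : ℕ) :
    LinearMap.range (QCoh.appLin (DivisorExt.mulIdeal (I ^ n) (CohB1.tensorPow T n)) V) =
      (I.ideal ⟨V, hV⟩ ^ n) • (⊤ : Submodule Γ(X, V) Γ(CohB1.tensorPow T n, V)) := by
  have hP := ProjUPX.isQCoh_of_isInvertible (InvX.isInvertible_tensorPow hT n)
  have hJ : (I ^ n).ideal ⟨V, hV⟩ = I.ideal ⟨V, hV⟩ ^ n := by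
    rw [Scheme.IdealSheafData.ideal_pow, Pi.pow_apply]
  refine le_antisymm ?_ (Submodule.smul_le.2 fun h hh a _ => ?_)
  · rintro _ ⟨s, rfl⟩
    obtain ⟨t, rfl⟩ := (QCoh.bijective_tmLin hP (PPSheaf.isQCoh_idealMod (I ^ n)) hV).2 s
    induction t using TensorProduct.induction_on with
    | zero => rw [map_zero, map_zero]; exact zero_mem _
    | tmul a b =>
      rw [QCoh.tmLin_tmul]
      show (DivisorExt.mulIdeal (I ^ n) (CohB1.tensorPow T n)).app V _ ∈ _
      rw [DivisorExt.mulIdeal_tmS]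
      exact Submodule.smul_mem_smul (hJ ▸ OmegaLib.idealSect_mem (I ^ n) ⟨V, hV⟩ b) trivial
    | add x y hx hy => rw [map_add, map_add]; exact add_mem hx hy
  · obtain ⟨c, rfl⟩ := OmegaLib.exists_of_mem (I ^ n) ⟨V, hV⟩ h (hJ ▸ hh)
    exact ⟨QCoh.tmS _ _ a c, DivisorExt.mulIdeal_tmS (I ^ n) _ a c⟩

include hT hV he hf in
theorem span_coord (hgen : ProjUP.GeneratedBy (CohB1.tensorMod (ClSub.idealMod I) T) σ) :
    Ideal.span (Set.range f) = I.ideal ⟨V, hV⟩ := by
  let G := CohB1.tensorMod (ClSub.idealMod I) T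
  let u := AmpleX.idealTwist (ClSub.idealModι I) T
  have hG : Coh.IsQCoh G := KFlatLib.isQCoh_tensor (PPSheaf.isQCoh_idealMod I) (ProjUPX.isQCoh_of_isInvertible hT)
  have hbij := QCoh.bijective_tmLin (PPSheaf.isQCoh_idealMod I) (ProjUPX.isQCoh_of_isInvertible hT) hV
  have hu : ∀ x : Γ(G, V), ∃ h ∈ I.ideal ⟨V, hV⟩, u.app V x = h • e := fun x => by
    obtain ⟨t, rfl⟩ := hbij.2 x
    induction t using TensorProduct.induction_on with
    | zero => exact ⟨0, zero_mem _, by rw [map_zero, map_zero, zero_smul]⟩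
    | tmul a b =>
      obtain ⟨g, hg⟩ := he.exists_coord le_rfl b
      rw [AModX.res_self] at hg
      refine ⟨OmegaSh.idealSect I V a * g, Ideal.mul_mem_right _ _ (OmegaLib.idealSect_mem I ⟨V, hV⟩ a), ?_⟩
      rw [mul_smul, ← hg]
      exact AmpleX.idealTwist_tmul (ClSub.idealModι I) T a b
    | add x y hx hy =>
      obtain ⟨a, ha, hxa⟩ := hx
      obtain ⟨b, hb, hyb⟩ := hy
      exact ⟨a + b, add_mem ha hb, by rw [map_add, map_add, hxa, hyb, add_smul]⟩
  have hres : ∀ j, u.app V (AModX.res G (le_top : V ≤ ⊤) (σ j)) = f j • e := fun j =>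
    (QCoh.map_app_comm u (homOfLE (le_top : V ≤ ⊤)) (σ j)).trans (hf j)
  refine le_antisymm (Ideal.span_le.2 ?_) fun h hh => ?_
  · rintro _ ⟨j, rfl⟩
    obtain ⟨a, ha, hja⟩ := hu (AModX.res G (le_top : V ≤ ⊤) (σ j))
    have : f j = a := he.coord_unique le_rfl (by rw [AModX.res_self, ← hres j, hja])
    exact this ▸ ha
  · have htop := AmpleVan.span_eq_top_of_germs hG hV (fun j => AModX.res G (le_top : V ≤ ⊤) (σ j)) fun x hx => by
      simp only [InvX.germ_res']
      exact hgen x
    obtain ⟨c, rfl⟩ := OmegaLib.exists_of_mem I ⟨V, hV⟩ h hh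
    have hmem : (InvX.tmul c e : Γ(G, V)) ∈ Submodule.span Γ(X, V) (Set.range fun j => AModX.res G (le_top : V ≤ ⊤) (σ j)) :=
      htop ▸ trivial
    obtain ⟨a, ha⟩ := (Submodule.mem_span_range_iff_exists_fun _).1 hmem
    refine Ideal.mem_span_range_iff_exists_fun.2 ⟨a, he.coord_unique le_rfl ?_⟩
    rw [AModX.res_self, Finset.sum_smul]
    have h2 : u.app V (InvX.tmul c e) = OmegaSh.idealSect I V c • e := AmpleX.idealTwist_tmul (ClSub.idealModι I) T c e
    refine Eq.trans ?_ h2
    rw [← ha, map_sum]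
    refine Finset.sum_congr rfl fun j _ => ?_
    rw [Scheme.Modules.Hom.app_smul, hres, mul_smul]

omit hV he hf in
include hT in
theorem mono_mulIdeal (n : ℕ) : Mono (DivisorExt.mulIdeal (I ^ n) (CohB1.tensorPow T n)) := by
  haveI := CurveOnSurf.isEquivalence_tensor (InvX.isInvertible_tensorPow hT n)
  haveI : Mono (ClSub.idealModι (I ^ n)) := inferInstanceAs (Mono (kernel.ι _))
  haveI : Mono ((DCoh.tensorBi.obj (CohB1.tensorPow T n)).map (ClSub.idealModι (I ^ n))) := inferInstance
  exact mono_comp _ _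

omit hV he hf in
/-- The images of the monomials are the twisted powers of the ideal. -/
theorem nonempty_iso (hgen : ProjUP.GeneratedBy (CohB1.tensorMod (ClSub.idealMod I) T) σ) (n : ℕ) :
    Nonempty ((imgSys I hT σ).G n ≅ CohB1.tensorMod (CohB1.tensorPow T n) (ClSub.idealMod (I ^ n))) := by
  haveI := mono_mulIdeal I hT n
  have hP := ProjUPX.isQCoh_of_isInvertible (InvX.isInvertible_tensorPow hT n)
  have hA := KFlatLib.isQCoh_tensor hP (PPSheaf.isQCoh_idealMod (I ^ n))
  have hF : Coh.IsQCoh ((FFun.Gen.Sys.free (Coh.structureModule X) r).G n) :=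
    QCoh.isQCoh_biproduct _ fun _ => QCoh.isQCoh_structureModule
  have hK : Coh.IsQCoh (Abelian.image (mono_ I hT σ n)) :=
    QCoh.isQCoh_kernel hP (QCoh.isQCoh_cokernel hF hP _) _
  let κ := {V : X.affineOpens // ∃ e : Γ(T, V.1), InvX.IsFrame e}
  refine ⟨Subobject.isoOfMkEqMk (Abelian.image.ι (mono_ I hT σ n))
    (DivisorExt.mulIdeal (I ^ n) (CohB1.tensorPow T n))
    (QCoh.subobject_eq_of_cover hK hA hP _ _ (fun V : κ => V.1.1) (fun V => V.1.2) (fun x => ?_) ?_)⟩
  · obtain ⟨U, hxU, e, he⟩ := InvX.exists_frame hT x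
    obtain ⟨W, hW, hxW, hWU⟩ := exists_isAffineOpen_mem_and_subset (x := x) (U := U) hxU
    exact ⟨⟨⟨W, hW⟩, _, he.res (show W ≤ U from hWU)⟩, hxW⟩
  · rintro ⟨⟨V, hV⟩, e, he⟩
    choose f hf using fun j => he.exists_coord le_rfl (AModX.res T (le_top : V ≤ ⊤) (sec I σ j))
    simp only [AModX.res_self] at hf
    refine Eq.trans (b := LinearMap.range (QCoh.appLin (mono_ I hT σ n) V)) ?_ ?_
    · refine le_antisymm ?_ ?_
      · rintro _ ⟨y, rfl⟩
        obtain ⟨x, rfl⟩ := QCoh.app_surjective_of_epi hF hK (Abelian.factorThruImage (mono_ I hT σ n)) hV y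
        exact ⟨x, (congr(($(Abelian.image.fac (mono_ I hT σ n))).app V x) : _).symm⟩
      · rintro _ ⟨x, rfl⟩
        exact ⟨(Abelian.factorThruImage (mono_ I hT σ n)).app V x,
          congr(($(Abelian.image.fac (mono_ I hT σ n))).app V x)⟩
    rw [range_mono I hT σ hV he hf, range_mulIdeal I hT hV, mul_span_monSet,
      span_coord I hT σ hV he hf hgen]
    refine le_antisymm ?_ (Submodule.smul_le.2 fun a ha x _ => ?_)
    · rintro _ ⟨a, ha, rfl⟩
      exact Submodule.smul_mem_smul ha trivial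
    · obtain ⟨c, hc⟩ := (AmpleX.isFrame_powElt he n).exists_coord le_rfl x
      rw [AModX.res_self] at hc
      refine ⟨a * c, Ideal.mul_mem_right _ _ ha, ?_⟩
      show (a * c) • AmpleX.powElt e n = a • x
      rw [mul_smul, hc]

end Groth.Agent.IdealPowVan
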